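import Groth.Agent.QCohBase.Exact
import Mathlib.Algebra.Homology.HomologySequence

/-!
# Quasi-coherence in long exact sequences
-/

noncomputable section

universe u

open CategoryTheory Limits AlgebraicGeometry

namespace Groth.Agent.RPushQCoh

variable {Y : Scheme.{u}}

/-- Quasi-coherence is invariant under isomorphism. -/
lemma qcoh_of_iso {M N : Y.Modules} (e : M ≅ N) (h : M.IsQuasicoherent) : N.IsQuasicoherent :=
  (SheafOfModules.isQuasicoherent Y.ringCatSheaf).prop_of_iso e h

/-- In an exact sequence `A → B → C → D → E` with quasi-coherent outer terms, so is `C`. -/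
theorem isQuasicoherent_five {A B C D E : Y.Modules} (a : A ⟶ B) (b : B ⟶ C) (c : C ⟶ D)
    (d : D ⟶ E) (w₁ : a ≫ b = 0) (w₂ : b ≫ c = 0) (w₃ : c ≫ d = 0)
    (h₁ : (ShortComplex.mk a b w₁).Exact) (h₂ : (ShortComplex.mk b c w₂).Exact)
    (h₃ : (ShortComplex.mk c d w₃).Exact)
    (hA : A.IsQuasicoherent) (hB : B.IsQuasicoherent) (hD : D.IsQuasicoherent)
    (hE : E.IsQuasicoherent) : C.IsQuasicoherent := by
  let q : B ⟶ kernel c := kernel.lift c b w₂
  haveI : Epi q := ((ShortComplex.mk b c w₂).exact_iff_epi_kernel_lift).1 h₂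
  have wq : a ≫ q = 0 := by
    rw [← cancel_mono (kernel.ι c), Category.assoc, kernel.lift_ι, w₁, zero_comp]
  have hq : (ShortComplex.mk a q wq).Exact := by
    refine (ShortComplex.exact_iff_of_epi_of_isIso_of_mono
      (S₁ := ShortComplex.mk a q wq) (S₂ := ShortComplex.mk a b w₁)
      ⟨𝟙 _, 𝟙 _, kernel.ι c, by simp, by simp [q]⟩).2 h₁
  haveI : Epi (ShortComplex.mk a q wq).g := ‹Epi q›
  have hK : (kernel c).IsQuasicoherent :=
    qcoh_of_iso ((cokernelIsCokernel a).coconePointUniqueUpToIso hq.gIsCokernel)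
      (QCohBase.isQuasicoherent_cokernel a hA hB)
  let p : C ⟶ kernel d := kernel.lift d c w₃
  haveI : Epi p := ((ShortComplex.mk c d w₃).exact_iff_epi_kernel_lift).1 h₃
  have wp : kernel.ι c ≫ p = 0 := by
    rw [← cancel_mono (kernel.ι d), Category.assoc, kernel.lift_ι, kernel.condition, zero_comp]
  have hp : (ShortComplex.mk (kernel.ι c) p wp).Exact :=
    (ShortComplex.exact_iff_of_epi_of_isIso_of_mono
      (S₁ := ShortComplex.mk (kernel.ι c) p wp)
      (S₂ := ShortComplex.mk (kernel.ι c) c (kernel.condition c))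
      ⟨𝟙 _, 𝟙 _, kernel.ι d, by simp, by simp [p]⟩).2
      (ShortComplex.exact_of_f_is_kernel _ (kernelIsKernel c))
  exact QCohBase.isQuasicoherent_of_extension
    (T := ShortComplex.mk (kernel.ι c) p wp)
    { exact := hp, mono_f := inferInstanceAs (Mono (kernel.ι c)), epi_g := ‹Epi p› }
    hK (QCohBase.isQuasicoherent_kernel d hD hE)

lemma mono_homologyMap_zero {K L : CochainComplex Y.Modules ℕ} (φ : K ⟶ L) [Mono (φ.f 0)] :
    Mono (HomologicalComplex.homologyMap φ 0) := by
  haveI : Mono (HomologicalComplex.cyclesMap φ 0) := by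
    have : Mono (HomologicalComplex.cyclesMap φ 0 ≫ L.iCycles 0) := by
      rw [HomologicalComplex.cyclesMap_i]; infer_instance
    exact mono_of_mono _ (L.iCycles 0)
  have h : HomologicalComplex.homologyMap φ 0 = (CochainComplex.isoHomologyπ₀ K).inv ≫
      HomologicalComplex.cyclesMap φ 0 ≫ (CochainComplex.isoHomologyπ₀ L).hom := by
    rw [← cancel_epi (CochainComplex.isoHomologyπ₀ K).hom, Iso.hom_inv_id_assoc]
    exact HomologicalComplex.homologyπ_naturality φ 0
  rw [h]
  infer_instance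

/-- Quasi-coherent homology of the kernel complex. -/
theorem isQuasicoherent_homology_X₁ {S : ShortComplex (CochainComplex Y.Modules ℕ)}
    (hS : S.ShortExact) (h₂ : ∀ p, (S.X₂.homology p).IsQuasicoherent)
    (h₃ : ∀ p, (S.X₃.homology p).IsQuasicoherent) (p : ℕ) :
    (S.X₁.homology p).IsQuasicoherent := by
  cases p with
  | zero =>
    haveI := (hS.map_of_exact (HomologicalComplex.eval Y.Modules _ 0)).mono_f
    haveI : Mono (S.f.f 0) := this
    haveI := mono_homologyMap_zero S.f
    exact QCohBase.isQuasicoherent_of_exact_left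
      (T := ShortComplex.mk (HomologicalComplex.homologyMap S.f 0)
        (HomologicalComplex.homologyMap S.g 0) _) (hS.homology_exact₂ 0) (h₂ 0) (h₃ 0)
  | succ p =>
    exact isQuasicoherent_five _ _ _ _ _ _ _ (hS.homology_exact₃ p (p + 1) rfl)
      (hS.homology_exact₁ p (p + 1) rfl) (hS.homology_exact₂ (p + 1))
      (h₂ p) (h₃ p) (h₂ (p + 1)) (h₃ (p + 1))

/-- Quasi-coherent homology of the middle complex. -/
theorem isQuasicoherent_homology_X₂ {S : ShortComplex (CochainComplex Y.Modules ℕ)}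
    (hS : S.ShortExact) (h₁ : ∀ p, (S.X₁.homology p).IsQuasicoherent)
    (h₃ : ∀ p, (S.X₃.homology p).IsQuasicoherent) (p : ℕ) :
    (S.X₂.homology p).IsQuasicoherent := by
  cases p with
  | zero =>
    haveI := (hS.map_of_exact (HomologicalComplex.eval Y.Modules _ 0)).mono_f
    haveI : Mono (S.f.f 0) := this
    haveI := mono_homologyMap_zero S.f
    refine isQuasicoherent_five (0 : S.X₁.homology 0 ⟶ S.X₁.homology 0) _ _ _ (zero_comp) _ _
      ?_ (hS.homology_exact₂ 0) (hS.homology_exact₃ 0 1 rfl) (h₁ 0) (h₁ 0) (h₃ 0) (h₁ 1)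
    rw [ShortComplex.exact_iff_mono _ rfl]
    assumption
  | succ p =>
    exact isQuasicoherent_five _ _ _ _ _ _ _ (hS.homology_exact₁ p (p + 1) rfl)
      (hS.homology_exact₂ (p + 1)) (hS.homology_exact₃ (p + 1) (p + 2) rfl)
      (h₃ p) (h₁ (p + 1)) (h₃ (p + 1)) (h₁ (p + 2))

end Groth.Agent.RPushQCoh
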