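import Groth.Agent.RPushQCoh.GFun
import Groth.Agent.QCohBase.Push

/-!
# Mayer-Vietoris for the functors `gFun`
-/

noncomputable section

universe u

open CategoryTheory Limits AlgebraicGeometry Opposite TopologicalSpace

namespace Groth.Agent.RPushQCoh

open QCohBase

variable {X Y : Scheme.{u}}

lemma epi_of_app_surjective {M N : Y.Modules} (φ : M ⟶ N)
    (h : ∀ U : Y.Opens, Function.Surjective (φ.app U)) : Epi φ := by
  haveI : (modAb Y).Faithful :=
    inferInstanceAs (SheafOfModules.toSheaf Y.ringCatSheaf).Faithful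
  haveI : Epi ((modAb Y).map φ) :=
    isLocallySurjective_of_basis _ Set.univ
      (Opens.isBasis_iff_nbhd.2 fun {U _} hx => ⟨U, trivial, hx, le_rfl⟩) fun U _ => h U
  exact (modAb Y).epi_of_epi_map this

lemma exact_of_sections {T : ShortComplex Y.Modules}
    (h : ∀ (U : Y.Opens) (s : Γ(T.X₂, U)), T.g.app U s = 0 → ∃ t, T.f.app U t = s) : T.Exact := by
  rw [T.exact_iff_epi_kernel_lift]
  refine epi_of_app_surjective _ fun U k => ?_
  obtain ⟨t, ht⟩ := h U ((kernel.ι T.g).app U k) (by
    rw [← ConcreteCategory.comp_apply, ← Scheme.Modules.Hom.comp_app, kernel.condition]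
    rfl)
  refine ⟨t, app_injective_of_mono (kernel.ι T.g) U ?_⟩
  rw [← ConcreteCategory.comp_apply, ← Scheme.Modules.Hom.comp_app, kernel.lift_ι]
  exact ht

variable (f : X ⟶ Y) {A B : X.Opens} (M : X.Modules)
  [TopCat.Sheaf.IsFlasque (X := X.toTopCat) (Coh.toAb M)]

lemma map_surjective {V W : X.Opens} (h : W ≤ V) :
    Function.Surjective (M.presheaf.map (homOfLE h).op) :=
  (AddCommGrpCat.epi_iff_surjective _).1
    (TopCat.Presheaf.IsFlasque.epi (F := (Coh.toAb M).obj) (homOfLE h).op)

lemma gMap_surjective (h : A ≤ B) (T : Y.Opens) :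
    Function.Surjective (((gMap f h).app M).app T) := map_surjective M (gOpen_mono f h T)

lemma epi_gMap (h : A ≤ B) : Epi ((gMap f h).app M) :=
  epi_of_app_surjective _ (gMap_surjective f M h)

omit [TopCat.Sheaf.IsFlasque (X := X.toTopCat) (Coh.toAb M)] in
lemma gMap_comp {C : X.Opens} (h : A ≤ B) (h' : B ≤ C) :
    (gMap f h').app M ≫ (gMap f h).app M = (gMap f (h.trans h')).app M := by
  refine Scheme.Modules.hom_ext _ _ fun T => ?_
  exact (M.presheaf.map_comp _ _).symm

variable (A B)

/-- `0 → K → G_B → G_{A ⊓ B} → 0`, for `K` the kernel of `G_{A ⊔ B} → G_A`. -/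
lemma shortExact_right {K : Y.Modules} (ι : K ⟶ (gFun f (A ⊔ B)).obj M)
    (w : ι ≫ (gMap f (le_sup_left : A ≤ A ⊔ B)).app M = 0)
    (hK : (ShortComplex.mk _ _ w).Exact) (hι : Mono ι)
    (w' : (ι ≫ (gMap f (le_sup_right : B ≤ A ⊔ B)).app M) ≫
      (gMap f (inf_le_right : A ⊓ B ≤ B)).app M = 0) :
    (ShortComplex.mk _ _ w').ShortExact := by
  let P : TopCat.Sheaf AddCommGrpCat.{u} X.toTopCat := Coh.toAb M
  have hcov : ∀ T, gOpen f (A ⊔ B) T ≤ gOpen f A T ⊔ gOpen f B T := fun T => by
    rw [gOpen_eq, gOpen_eq, gOpen_eq, inf_sup_right]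
  have hzero : ∀ (T : Y.Opens) (k : Γ(K, T)),
      M.presheaf.map (homOfLE (gOpen_mono f (le_sup_left : A ≤ A ⊔ B) T)).op (ι.app T k) = 0 :=
    fun T k => congrArg (fun φ => Scheme.Modules.Hom.app φ T k) w
  have hinj : ∀ T, Function.Injective ((ι ≫ (gMap f (le_sup_right : B ≤ A ⊔ B)).app M).app T) := by
    intro T k k' hkk
    haveI := hι
    refine app_injective_of_mono ι T ?_
    refine TopCat.Sheaf.eq_of_locally_eq₂ P (homOfLE (gOpen_mono f le_sup_left T))
      (homOfLE (gOpen_mono f le_sup_right T)) (hcov T) _ _ ?_ hkk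
    exact (hzero T k).trans (hzero T k').symm
  refine { exact := exact_of_sections fun T t ht => ?_, mono_f := ?_, epi_g := epi_gMap f M _ }
  · let U : Bool → X.Opens := fun b => if b then gOpen f A T else gOpen f B T
    let sf : ∀ b, P.1.obj (op (U b)) := fun b => Bool.rec (motive := fun b => P.1.obj (op (U b))) t 0 b
    have hab : gOpen f A T ⊓ gOpen f B T ≤ gOpen f (A ⊓ B) T := by
      rw [gOpen_eq, gOpen_eq, gOpen_eq]
      exact le_inf (inf_le_inf inf_le_left inf_le_left) (inf_le_left.trans inf_le_right)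
    have ht' : ∀ (W : X.Opens) (hW : W ≤ gOpen f B T), W ≤ gOpen f A T →
        M.presheaf.map (homOfLE hW).op t = 0 := fun W hW hW' => by
      have hle : W ≤ gOpen f (A ⊓ B) T := (le_inf hW' hW).trans hab
      have h2 : (homOfLE hW).op = (homOfLE (gOpen_mono f (inf_le_right : A ⊓ B ≤ B) T)).op ≫
          (homOfLE hle).op := rfl
      rw [h2, Functor.map_comp, ConcreteCategory.comp_apply]
      exact (congrArg _ ht).trans (map_zero _)
    obtain ⟨s, hs, -⟩ := TopCat.Sheaf.existsUnique_gluing' P U (gOpen f (A ⊔ B) T)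
      (fun b => homOfLE (by cases b <;> exact gOpen_mono f (by simp) T))
      (hcov T |>.trans (sup_le (le_iSup U true) (le_iSup U false))) sf (by
        intro b c
        cases b <;> cases c
        · rfl
        · exact (ht' _ inf_le_left inf_le_right).trans (map_zero _).symm
        · exact (map_zero _).trans (ht' _ inf_le_right inf_le_left).symm
        · rfl)
    haveI : Mono (ShortComplex.mk _ _ w).f := hι
    obtain ⟨k, hk⟩ := sections_exact_left hK (U := T) s (hs true)
    refine ⟨k, ?_⟩
    change M.presheaf.map _ (ι.app T k) = t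
    rw [show ι.app T k = s from hk]
    exact hs false
  · refine Preadditive.mono_of_cancel_zero _ fun {Z} z hz => ?_
    refine Scheme.Modules.hom_ext _ _ fun T => ?_
    ext x
    apply hinj T
    have := congrArg (fun φ => Scheme.Modules.Hom.app φ T x) hz
    exact this.trans (map_zero _).symm

end Groth.Agent.RPushQCoh
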