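import Groth.Agent.RPushQCoh.MV
import Groth.Agent.RPushQCoh.FiveTerm
import Groth.Agent.FlasqueAcyclic.Compare
import Groth.Agent.SiteBase.ModGrothendieck
import Groth.Agent.QCohBase.Qcqs
import Groth.Agent.QCohBase.Induction
import Groth.Prelude.Def_CxOX

/-!
# Higher direct images of quasi-coherent modules along qcqs morphisms
-/

noncomputable section

universe u

open CategoryTheory Limits AlgebraicGeometry Opposite TopologicalSpace

namespace Groth.Agent.RPushQCoh

open QCohBase

variable {X Y : Scheme.{u}}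

instance (X : Scheme.{u}) : EnoughInjectives X.Modules :=
  inferInstanceAs (EnoughInjectives (SheafOfModules.{u} X.ringCatSheaf))

lemma isZero_of_isZero_toAb {M : Y.Modules} (h : IsZero (Coh.toAb M)) : IsZero M := by
  haveI : (QCohBase.modAb Y).Faithful :=
    inferInstanceAs (SheafOfModules.toSheaf Y.ringCatSheaf).Faithful
  rw [IsZero.iff_id_eq_zero]
  exact (QCohBase.modAb Y).map_injective (h.eq_of_src _ _)

lemma isFlasque_restrict {U : Scheme.{u}} (j : U ⟶ X) [IsOpenImmersion j] (J : X.Modules)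
    (hJ : Injective J) :
    TopCat.Sheaf.IsFlasque (X := U.toTopCat) (Coh.toAb (J.restrict j)) where
  epi {V W} i :=
    haveI := @FlasqueAcyclic.isFlasque_toAb X J hJ
    TopCat.Presheaf.IsFlasque.epi (F := (Coh.toAb J).obj) (j.opensFunctor.op.map i)

lemma isZero_Rpush_restrict {U : Scheme.{u}} (j : U ⟶ X) [IsOpenImmersion j] (g : U ⟶ Y)
    (J : X.Modules) (hJ : Injective J) (n : ℕ) :
    IsZero ((Coh.Rpush g (n + 1)).obj (J.restrict j)) := by
  haveI := isFlasque_restrict j J hJ
  obtain ⟨e⟩ := FlasqueAcyclic.nonempty_toAb_Rpush_iso g (J.restrict j) (n + 1)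
  exact isZero_of_isZero_toAb
    ((FlasqueAcyclic.isZero_rightDerived_push_of_isFlasque g.base _ n).of_iso e)

lemma isQuasicoherent_of_isZero {N : Y.Modules} (hz : IsZero N) : N.IsQuasicoherent :=
  isQuasicoherent_of_forall_localizesOn fun U _ f => by
    have key : ∀ (W : Y.Opens) (s : Γ(N, W)), s = 0 := fun W s =>
      congrArg (fun φ : N ⟶ N => φ.app W s) (hz.eq_of_src (𝟙 N) 0)
    exact ⟨fun x => ⟨0, 0, (key _ _).trans (key _ _).symm⟩, fun y _ => ⟨0, key _ _⟩⟩

/-- Derived direct images of a restriction, computed by a resolution upstairs. -/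
lemma nonempty_homology_restrict {U : Scheme.{u}} (j : U ⟶ X) [IsOpenImmersion j] (g : U ⟶ Y)
    {M : X.Modules} (I : InjectiveResolution M) (p : ℕ) :
    Nonempty ((Coh.Rpush g p).obj (M.restrict j) ≅
      (((Scheme.Modules.restrictFunctor j ⋙ Coh.push g).mapHomologicalComplex _).obj
        I.cocomplex).homology p) := by
  haveI : (Scheme.Modules.restrictFunctor j).Additive :=
    (Scheme.Modules.restrictAdjunction j).left_adjoint_additive
  exact FlasqueAcyclic.nonempty_homology_iso (Scheme.Modules.restrictFunctor j) (Coh.push g)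
    (fun J hJ n => isZero_Rpush_restrict j g J hJ n) (Iso.refl _) I p

lemma isQCoh_Rpush_of_isAffineHom (g : X ⟶ Y) [IsAffineHom g] (M : X.Modules) (hM : Coh.IsQCoh M)
    (p : ℕ) : Coh.IsQCoh ((Coh.Rpush g p).obj M) := by
  haveI : M.IsQuasicoherent := hM
  cases p with
  | zero =>
    exact qcoh_of_iso (((Coh.push g).rightDerivedZeroIsoSelf.app M).symm)
      (QCohBase.isQuasicoherent_pushforward M g)
  | succ p =>
    obtain ⟨e⟩ := FlasqueAcyclic.nonempty_toAb_Rpush_iso g M (p + 1)
    have hz : IsZero ((Coh.Rpush g (p + 1)).obj M) := isZero_of_isZero_toAb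
      ((CovSystem.isZero_rightDerived_push (S := affineSystem X) g.base {V | IsAffineOpen V}
        Y.isBasis_affineOpens (fun V hV => IsAffineOpen.preimage hV g)
        (acyclic_of_isQCoh M) p).of_iso e)
    exact isQuasicoherent_of_isZero hz

/-- The complex computing `R f_*` of the sections over `W`. -/
abbrev gCx (f : X ⟶ Y) (W : X.Opens) {M : X.Modules} (I : InjectiveResolution M) :
    CochainComplex Y.Modules ℕ :=
  ((gFun f W).mapHomologicalComplex _).obj I.cocomplex

/-- Restriction maps between these complexes. -/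
abbrev gCxMap (f : X ⟶ Y) {A B : X.Opens} (h : A ≤ B) {M : X.Modules}
    (I : InjectiveResolution M) : gCx f B I ⟶ gCx f A I :=
  (NatTrans.mapHomologicalComplex (gMap f h) (ComplexShape.up ℕ)).app I.cocomplex

lemma isFlasque_injectiveResolution {M : X.Modules} (I : InjectiveResolution M) (n : ℕ) :
    TopCat.Sheaf.IsFlasque (X := X.toTopCat) (Coh.toAb (I.cocomplex.X n)) :=
  @FlasqueAcyclic.isFlasque_toAb X _ (I.injective n)

lemma epi_gCxMap (f : X ⟶ Y) {A B : X.Opens} (h : A ≤ B) {M : X.Modules}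
    (I : InjectiveResolution M) : Epi (gCxMap f h I) := by
  haveI : ∀ n, Epi ((gCxMap f h I).f n) := fun n =>
    @epi_gMap X Y f A B (I.cocomplex.X n) (isFlasque_injectiveResolution I n) h
  exact HomologicalComplex.epi_of_epi_f _ fun n => inferInstance

/-- Mayer-Vietoris step. -/
lemma isQuasicoherent_homology_sup (f : X ⟶ Y) (A B : X.Opens) {M : X.Modules}
    (I : InjectiveResolution M) (hA : ∀ p, ((gCx f A I).homology p).IsQuasicoherent)
    (hB : ∀ p, ((gCx f B I).homology p).IsQuasicoherent)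
    (hAB : ∀ p, ((gCx f (A ⊓ B) I).homology p).IsQuasicoherent) (p : ℕ) :
    ((gCx f (A ⊔ B) I).homology p).IsQuasicoherent := by
  let a := gCxMap f (le_sup_left : A ≤ A ⊔ B) I
  let b := gCxMap f (le_sup_right : B ≤ A ⊔ B) I
  let c := gCxMap f (inf_le_right : A ⊓ B ≤ B) I
  haveI : Epi a := epi_gCxMap f _ I
  let T₁ : ShortComplex (CochainComplex Y.Modules ℕ) :=
    ShortComplex.mk (kernel.ι a) a (kernel.condition a)
  have h₁ : T₁.ShortExact :=
    { exact := ShortComplex.exact_of_f_is_kernel _ (kernelIsKernel a)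
      mono_f := inferInstanceAs (Mono (kernel.ι a)), epi_g := ‹Epi a› }
  have hbc : (kernel.ι a ≫ b) ≫ c = 0 := by
    have hac : b ≫ c = a ≫ gCxMap f (inf_le_left : A ⊓ B ≤ A) I :=
      HomologicalComplex.hom_ext _ _ fun n =>
        (gMap_comp f (I.cocomplex.X n) (inf_le_right : A ⊓ B ≤ B) le_sup_right).trans
          (gMap_comp f (I.cocomplex.X n) (inf_le_left : A ⊓ B ≤ A) le_sup_left).symm
    rw [Category.assoc, hac, kernel.condition_assoc, zero_comp]
  let T₂ : ShortComplex (CochainComplex Y.Modules ℕ) := ShortComplex.mk (kernel.ι a ≫ b) c hbc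
  have h₂ : T₂.ShortExact := HomologicalComplex.shortExact_of_degreewise_shortExact _ fun n => by
    haveI := isFlasque_injectiveResolution I n
    have hn := h₁.map_of_exact (HomologicalComplex.eval Y.Modules (ComplexShape.up ℕ) n)
    exact shortExact_right f A B (I.cocomplex.X n) ((kernel.ι a).f n) _ hn.exact hn.mono_f _
  exact isQuasicoherent_homology_X₂ h₁
    (fun q => isQuasicoherent_homology_X₁ h₂ hB hAB q) hA p

/-- Higher direct images of quasi-coherent modules to an affine scheme. -/
theorem isQCoh_Rpush_of_isAffine (f : X ⟶ Y) [QuasiCompact f] [QuasiSeparated f] [IsAffine Y]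
    (M : X.Modules) (hM : Coh.IsQCoh M) (p : ℕ) : Coh.IsQCoh ((Coh.Rpush f p).obj M) := by
  haveI : M.IsQuasicoherent := hM
  haveI : CompactSpace X := QuasiCompact.compactSpace_of_compactSpace f
  haveI : QuasiSeparatedSpace X := quasiSeparatedSpace_of_quasiSeparated f
  let I := injectiveResolution M
  have key : ∀ p, ((gCx f ⊤ I).homology p).IsQuasicoherent := by
    refine qcqs_induction (P := fun W => ∀ p, ((gCx f W I).homology p).IsQuasicoherent) ?_ ?_ ⊤
      (CompactSpace.isCompact_univ)
    · intro W hW q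
      haveI : IsAffine W := hW
      obtain ⟨e⟩ := nonempty_homology_restrict W.ι (W.ι ≫ f) I q
      exact qcoh_of_iso e (isQCoh_Rpush_of_isAffineHom (W.ι ≫ f) (M.restrict W.ι)
        (inferInstanceAs ((Scheme.Modules.restrictFunctor W.ι).obj M).IsQuasicoherent) q)
    · intro U V _ _ hU hV hUV q
      exact isQuasicoherent_homology_sup f U V I hU hV hUV q
  haveI : IsIso (Scheme.Modules.restrictAdjunction (⊤ : X.Opens).ι).unit := by
    have : ∀ N : X.Modules, IsIso ((Scheme.Modules.restrictAdjunction (⊤ : X.Opens).ι).unit.app N) := by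
      intro N
      rw [Scheme.Modules.Hom.isIso_iff_isIso_app]
      intro T
      rw [Scheme.Modules.restrictAdjunction_unit_app_app]
      have hT : (⊤ : X.Opens).ι ''ᵁ (⊤ : X.Opens).ι ⁻¹ᵁ T = T := by
        simp [Scheme.Hom.image_preimage_eq_opensRange_inf]
      haveI : IsIso (homOfLE ((⊤ : X.Opens).ι.image_preimage_le T)) :=
        ⟨eqToHom hT.symm, Subsingleton.elim _ _, Subsingleton.elim _ _⟩
      exact Functor.map_isIso N.presheaf _
    exact NatIso.isIso_of_isIso_app _
  let θ : Coh.push f ≅ gFun f ⊤ :=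
    (Functor.leftUnitor _).symm ≪≫
      Functor.isoWhiskerRight (asIso (Scheme.Modules.restrictAdjunction (⊤ : X.Opens).ι).unit)
        (Coh.push f) ≪≫ Functor.associator _ _ _ ≪≫
      Functor.isoWhiskerLeft (Scheme.Modules.restrictFunctor (⊤ : X.Opens).ι)
        (Scheme.Modules.pushforwardComp (⊤ : X.Opens).ι f)
  exact qcoh_of_iso
    ((HomologicalComplex.homologyFunctor Y.Modules _ p).mapIso
        ((NatIso.mapHomologicalComplex θ _).app I.cocomplex).symm ≪≫
      (I.isoRightDerivedObj (Coh.push f) p).symm) (key p)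

/-- Higher direct images of quasi-coherent modules along qcqs morphisms are quasi-coherent. -/
theorem isQCoh_Rpush (f : X ⟶ Y) [QuasiCompact f] [QuasiSeparated f]
    (M : X.Modules) (hM : Coh.IsQCoh M) (p : ℕ) : Coh.IsQCoh ((Coh.Rpush f p).obj M) := by
  haveI : M.IsQuasicoherent := hM
  refine QCohBase.isQuasicoherent_of_cover (fun V : {V : Y.Opens // IsAffineOpen V} => V.1)
    (fun y => ?_) (fun ⟨V, hV⟩ => ?_)
  · obtain ⟨V, hV, hy, -⟩ := Opens.isBasis_iff_nbhd.1 Y.isBasis_affineOpens (U := ⊤) (Opens.mem_top y)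
    exact ⟨⟨V, hV⟩, hy⟩
  haveI : IsAffine V := hV
  let W := f ⁻¹ᵁ V
  let g := f ∣_ V
  let I := injectiveResolution M
  haveI : IsIso (Functor.whiskerRight (Scheme.Modules.restrictAdjunction W.ι).unit
      (Coh.push f ⋙ Scheme.Modules.restrictFunctor V.ι)) := by
    have : ∀ N : X.Modules, IsIso ((Functor.whiskerRight
        (Scheme.Modules.restrictAdjunction W.ι).unit
          (Coh.push f ⋙ Scheme.Modules.restrictFunctor V.ι)).app N) := by
      intro N
      rw [Scheme.Modules.Hom.isIso_iff_isIso_app]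
      intro T
      change IsIso (((Scheme.Modules.restrictAdjunction W.ι).unit.app N).app (f ⁻¹ᵁ (V.ι ''ᵁ T)))
      rw [Scheme.Modules.restrictAdjunction_unit_app_app]
      have hle : f ⁻¹ᵁ (V.ι ''ᵁ T) ≤ W := f.preimage_mono (V.ι_image_le T)
      have hT : W.ι ''ᵁ W.ι ⁻¹ᵁ (f ⁻¹ᵁ (V.ι ''ᵁ T)) = f ⁻¹ᵁ (V.ι ''ᵁ T) := by
        rw [Scheme.Hom.image_preimage_eq_opensRange_inf, Scheme.Opens.opensRange_ι]
        exact inf_eq_right.2 hle
      haveI : IsIso (homOfLE (W.ι.image_preimage_le (f ⁻¹ᵁ (V.ι ''ᵁ T)))) :=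
        ⟨eqToHom hT.symm, Subsingleton.elim _ _, Subsingleton.elim _ _⟩
      exact Functor.map_isIso N.presheaf _
    exact NatIso.isIso_of_isIso_app _
  let θ : Coh.push f ⋙ Scheme.Modules.restrictFunctor V.ι ≅
      Scheme.Modules.restrictFunctor W.ι ⋙ Coh.push g :=
    (Functor.leftUnitor _).symm ≪≫
      asIso (Functor.whiskerRight (Scheme.Modules.restrictAdjunction W.ι).unit
        (Coh.push f ⋙ Scheme.Modules.restrictFunctor V.ι)) ≪≫
      Functor.associator _ _ _ ≪≫
      Functor.isoWhiskerLeft (Scheme.Modules.restrictFunctor W.ι)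
        ((Functor.associator _ _ _).symm ≪≫
          Functor.isoWhiskerRight (Scheme.Modules.pushforwardComp W.ι f ≪≫
            Scheme.Modules.pushforwardCongr (morphismRestrict_ι f V).symm ≪≫
            (Scheme.Modules.pushforwardComp g V.ι).symm) (Scheme.Modules.restrictFunctor V.ι) ≪≫
          Functor.associator _ _ _ ≪≫
          Functor.isoWhiskerLeft (Coh.push g) (Scheme.Modules.restrictFunctorAdjCounitIso V.ι) ≪≫
          Functor.rightUnitor _)
  haveI : (Scheme.Modules.restrictFunctor V.ι).Additive :=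
    (Scheme.Modules.restrictAdjunction V.ι).left_adjoint_additive
  haveI : (Scheme.Modules.restrictFunctor W.ι).Additive :=
    (Scheme.Modules.restrictAdjunction W.ι).left_adjoint_additive
  obtain ⟨e⟩ := nonempty_homology_restrict W.ι g I p
  exact qcoh_of_iso (e ≪≫ (HomologicalComplex.homologyFunctor (V : Scheme).Modules _ p).mapIso
        ((NatIso.mapHomologicalComplex θ _).app I.cocomplex).symm ≪≫
      (FlasqueAcyclic.mapRightDerivedIso (Coh.push f) (Scheme.Modules.restrictFunctor V.ι) I p).symm)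
    (isQCoh_Rpush_of_isAffine g (M.restrict W.ι)
      (inferInstanceAs ((Scheme.Modules.restrictFunctor W.ι).obj M).IsQuasicoherent) p)

end Groth.Agent.RPushQCoh
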