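import Groth.Agent.QCohBase.Exact
import Mathlib.Topology.Sheaves.Flasque

/-!
# The functors `M ↦ f_*(j_* (M|_W))` and their transition maps
-/

noncomputable section

universe u

open CategoryTheory Limits AlgebraicGeometry Opposite TopologicalSpace

namespace Groth.Agent.RPushQCoh

open QCohBase

variable {X Y : Scheme.{u}} (f : X ⟶ Y)

/-- `M ↦ (W ↪ X → Y)_* (M|_W)`. -/
abbrev gFun (W : X.Opens) : X.Modules ⥤ Y.Modules :=
  Scheme.Modules.restrictFunctor W.ι ⋙ Scheme.Modules.pushforward (W.ι ≫ f)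

instance (W : X.Opens) : (Scheme.Modules.restrictFunctor W.ι).Additive :=
  (Scheme.Modules.restrictAdjunction W.ι).left_adjoint_additive

instance (W : X.Opens) : (gFun f W).Additive := inferInstance

/-- The open over which the sections of `gFun f W` are taken. -/
abbrev gOpen (W : X.Opens) (T : Y.Opens) : X.Opens := W.ι ''ᵁ ((W.ι ≫ f) ⁻¹ᵁ T)

lemma gOpen_eq (W : X.Opens) (T : Y.Opens) : gOpen f W T = W ⊓ f ⁻¹ᵁ T := by
  simp [gOpen, Scheme.Hom.image_preimage_eq_opensRange_inf]

lemma gOpen_mono {A B : X.Opens} (h : A ≤ B) (T : Y.Opens) : gOpen f A T ≤ gOpen f B T := by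
  rw [gOpen_eq, gOpen_eq]; exact inf_le_inf_right _ h

lemma gOpen_le (W : X.Opens) (T : Y.Opens) : gOpen f W T ≤ f ⁻¹ᵁ T := by
  rw [gOpen_eq]; exact inf_le_right

lemma scalar_eq (W : X.Opens) (T : Y.Opens) (r : Γ(Y, T)) :
    (W.ι.appIso _).inv ((W.ι ≫ f).app T r) =
      X.presheaf.map (homOfLE (gOpen_le f W T)).op (f.app T r) := by
  rw [Scheme.Opens.ι_appIso, Scheme.Hom.comp_app, Scheme.Opens.ι_app]
  rfl

/-- Scalars act through `f`. -/
lemma smul_gFun (W : X.Opens) (M : X.Modules) (T : Y.Opens) (r : Γ(Y, T))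
    (s : Γ(M, gOpen f W T)) :
    (HSMul.hSMul (β := Γ((gFun f W).obj M, T)) r s : Γ((gFun f W).obj M, T)) =
      (X.presheaf.map (homOfLE (gOpen_le f W T)).op (f.app T r) • s : Γ(M, gOpen f W T)) :=
  congrArg (fun a : Γ(X, gOpen f W T) => a • s) (scalar_eq f W T r)

lemma gPre_naturality {A B : X.Opens} (h : A ≤ B) (M : X.Modules) {T T' : Y.Opens}
    (i : T' ⟶ T) :
    ((gFun f B).obj M).presheaf.map i.op ≫ M.presheaf.map (homOfLE (gOpen_mono f h T')).op =
      M.presheaf.map (homOfLE (gOpen_mono f h T)).op ≫ ((gFun f A).obj M).presheaf.map i.op := by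
  change M.presheaf.map (B.ι.opensFunctor.map ((Opens.map (B.ι ≫ f).base).map i)).op ≫ _ =
    _ ≫ M.presheaf.map (A.ι.opensFunctor.map ((Opens.map (A.ι ≫ f).base).map i)).op
  refine (M.presheaf.map_comp _ _).symm.trans (Eq.trans ?_ (M.presheaf.map_comp _ _))
  exact congrArg M.presheaf.map (Quiver.Hom.unop_inj (Subsingleton.elim _ _))

/-- Transition maps of underlying presheaves. -/
def gPre {A B : X.Opens} (h : A ≤ B) (M : X.Modules) :
    ((gFun f B).obj M).presheaf ⟶ ((gFun f A).obj M).presheaf where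
  app T := M.presheaf.map (homOfLE (gOpen_mono f h T.unop)).op
  naturality T T' i := gPre_naturality f h M i.unop

lemma gPre_smul {A B : X.Opens} (h : A ≤ B) (M : X.Modules) (T : Y.Opens) (r : Γ(Y, T))
    (s : Γ((gFun f B).obj M, T)) :
    (gPre f h M).app (op T) (r • s) = r • (gPre f h M).app (op T) s := by
  rw [smul_gFun f B M T r s]
  refine Eq.trans (Scheme.Modules.map_smul M (homOfLE (gOpen_mono f h T)) _ _) ?_
  refine Eq.trans ?_ (smul_gFun f A M T r _).symm
  congr 1
  rw [← ConcreteCategory.comp_apply, ← Functor.map_comp]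
  rfl

/-- Transition maps on one module. -/
def gMapApp {A B : X.Opens} (h : A ≤ B) (M : X.Modules) :
    (gFun f B).obj M ⟶ (gFun f A).obj M :=
  ⟨PresheafOfModules.homMk (gPre f h M) fun T r s => gPre_smul f h M T.unop r s⟩

/-- Transition maps. -/
def gMap {A B : X.Opens} (h : A ≤ B) : gFun f B ⟶ gFun f A where
  app := gMapApp f h
  naturality M N φ := by
    refine Scheme.Modules.hom_ext _ _ fun T => ?_
    exact (φ.mapPresheaf.naturality (homOfLE (gOpen_mono f h T)).op).symm

lemma gMap_app {A B : X.Opens} (h : A ≤ B) (M : X.Modules) (T : Y.Opens)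
    (s : Γ((gFun f B).obj M, T)) :
    ((gMap f h).app M).app T s = M.presheaf.map (homOfLE (gOpen_mono f h T)).op s := rfl

lemma gFun_map_app (W : X.Opens) {M N : X.Modules} (φ : M ⟶ N) (T : Y.Opens)
    (s : Γ((gFun f W).obj M, T)) :
    ((gFun f W).map φ).app T s = φ.app (gOpen f W T) s := rfl

end Groth.Agent.RPushQCoh
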